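import Groth.Agent.InjQC.GammaZ
import Groth.Agent.InjQC.Resolution
import Groth.Agent.InjQC.BoundedRep
import Groth.Agent.ExtZShX.Gamma
import Groth.Agent.SheafHomX.Coherent

/-!
# Extending a morphism from an open to a coherent submodule
-/

set_option linter.style.haveILetI false
set_option linter.unusedSectionVars false
set_option backward.isDefEq.respectTransparency false
set_option backward.isDefEq.respectTransparency.types false
set_option maxHeartbeats 1000000

universe u

open CategoryTheory CategoryTheory.Limits AlgebraicGeometry TopologicalSpace Opposite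

noncomputable section

attribute [local instance] CategoryTheory.Abelian.hasFiniteBiproducts

namespace Groth.Agent.ExtendHom

open ExtZShX

variable {X : Scheme.{u}} [IsLocallyNoetherian X]

/-- A morphism on an open extends to a coherent submodule equal to the source on that open. -/
theorem exists_extend (F G : X.Modules) (hF : Coh.IsCoh F) (hG : Coh.IsCoh G) (U : X.Opens)
    (φ : (Scheme.Modules.restrictFunctor U.ι).obj F ⟶ (Scheme.Modules.restrictFunctor U.ι).obj G) :
    ∃ (F' : X.Modules) (ι : F' ⟶ F) (φ' : F' ⟶ G), Mono ι ∧ Coh.IsCoh F' ∧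
      IsIso ((Scheme.Modules.restrictFunctor U.ι).map ι) ∧
      (Scheme.Modules.restrictFunctor U.ι).map φ' = (Scheme.Modules.restrictFunctor U.ι).map ι ≫ φ := by
  let R := Scheme.Modules.restrictFunctor U.ι
  let adj := Scheme.Modules.restrictAdjunction U.ι
  haveI : PreservesLimits R := (KFlatLib.lshAdj U.ι).rightAdjoint_preservesLimits
  haveI : R.Additive := Functor.additive_of_preserves_binary_products _
  let P := (Scheme.Modules.pushforward U.ι).obj (R.obj G)
  let ψ : F ⟶ P := adj.homEquiv _ _ φ
  let η : G ⟶ P := adj.unit.app G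
  let θ : F ⊞ G ⟶ P := biprod.desc ψ (-η)
  have hFG : Coh.IsQCoh (F ⊞ G) := InjQC.isQCoh_biprod hF.1 hG.1
  have hE : Coh.IsQCoh (kernel θ) :=
    QCoh.isQCoh_kernel hFG (QCoh.isQCoh_pushforward U.ι (QCoh.isQCoh_restrict U.ι hG.1)) θ
  let p : kernel θ ⟶ F := kernel.ι θ ≫ biprod.fst
  let q : kernel θ ⟶ G := kernel.ι θ ≫ biprod.snd
  have hθ : θ = biprod.fst ≫ ψ - biprod.snd ≫ η := by
    refine biprod.hom_ext' _ _ ?_ ?_
    · rw [biprod.inl_desc, Preadditive.comp_sub, biprod.inl_fst_assoc, biprod.inl_snd_assoc, zero_comp, sub_zero]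
    · rw [biprod.inr_desc, Preadditive.comp_sub, biprod.inr_fst_assoc, biprod.inr_snd_assoc, zero_comp, zero_sub]
  have hkθ : p ≫ ψ - q ≫ η = 0 := by
    rw [Category.assoc, Category.assoc, ← Preadditive.comp_sub, ← hθ, kernel.condition]
  let t : (gam U).obj G ⟶ kernel θ := kernel.lift θ (gι U G ≫ biprod.inr) (by
    rw [Category.assoc, biprod.inr_desc, Preadditive.comp_neg, neg_eq_zero]
    exact kernel.condition _)
  haveI : Mono t := by
    haveI : Mono (gι U G ≫ (biprod.inr : G ⟶ F ⊞ G)) := mono_comp _ _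
    exact mono_of_mono_fac (kernel.lift_ι θ _ _)
  obtain ⟨I, i, hi, hI, hIq, -⟩ := InjQC.exists_mono_injective (InjQC.isQCoh_gammaZ U.ι G hG.1)
  haveI := hi
  haveI := hI
  haveI : Injective ((gam U).obj I) := InjQC.injective_gammaZ U.ι I hIq
  let a : (gam U).obj G ⟶ (gam U).obj I := glift i (fun V hV s => by
    have h0 : s = 0 := QCoh.app_injective (gι U G) V (by rw [map_zero]; exact van_gι U G V hV s)
    rw [h0, map_zero])
  haveI : Mono a := mono_of_mono_fac (glift_ι _ _)
  let h : kernel θ ⟶ (gam U).obj I := Injective.factorThru a t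
  have hta : t ≫ h = a := Injective.comp_factorThru a t
  let m := kernel.ι h
  have hM : Coh.IsQCoh (kernel h) := QCoh.isQCoh_kernel hE (InjQC.isQCoh_gammaZ U.ι I hIq) h
  haveI : Mono (m ≫ p) := Preadditive.mono_of_cancel_zero _ fun {Z} k hk => by
    have hk2 : (k ≫ m ≫ q) ≫ η = 0 := by
      have hk' : k ≫ m ≫ p ≫ ψ = 0 := by
        rw [← Category.assoc m p, ← Category.assoc k, hk, zero_comp]
      rw [Category.assoc, Category.assoc, ← (sub_eq_zero.1 hkθ), hk']
    let l : Z ⟶ (gam U).obj G := kernel.lift _ (k ≫ m ≫ q) hk2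
    have hlt : l ≫ t = k ≫ m := by
      rw [← cancel_mono (kernel.ι θ), Category.assoc, kernel.lift_ι, Category.assoc]
      refine biprod.hom_ext _ _ ?_ ?_
      · simpa [p] using hk.symm
      · simp only [Category.assoc, biprod.inr_snd, Category.comp_id]
        exact kernel.lift_ι _ _ _
    have hl : l = 0 := by
      rw [← cancel_mono a, zero_comp, ← hta, ← Category.assoc, hlt, Category.assoc, kernel.condition, comp_zero]
    rw [← cancel_mono m, zero_comp, ← hlt, hl, zero_comp]
  have hF' : Coh.IsCoh (kernel h) := QCoh.isCoh_of_mono (m ≫ p) hF hM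
  have hη : R.map η ≫ adj.counit.app (R.obj G) = 𝟙 _ := adj.left_triangle_components G
  have hψ : R.map ψ ≫ adj.counit.app (R.obj G) = φ := by
    refine (Adjunction.homEquiv_counit adj F (R.obj G) ψ).symm.trans ?_
    exact (adj.homEquiv F (R.obj G)).symm_apply_apply φ
  have hkey : R.map q = R.map p ≫ φ := by
    have h1 : R.map (p ≫ ψ) ≫ adj.counit.app (R.obj G) = R.map (q ≫ η) ≫ adj.counit.app (R.obj G) := by
      rw [sub_eq_zero.1 hkθ]
    rw [R.map_comp p ψ, R.map_comp q η, Category.assoc, Category.assoc, hη, hψ, Category.comp_id] at h1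
    exact h1.symm
  refine ⟨kernel h, m ≫ p, m ≫ q, inferInstance, hF', ?_, ?_⟩
  · have hz : IsZero (R.obj ((gam U).obj I)) := isZero_restrict_of_null fun V hV s =>
      QCoh.app_injective (gι U I) V (by rw [map_zero]; exact van_gι U I V hV _)
    haveI : Mono (R.map (m ≫ p)) := inferInstance
    let σ : R.obj F ⟶ R.obj (F ⊞ G) := R.map biprod.inl + φ ≫ R.map biprod.inr
    have hσθ : σ ≫ R.map θ = 0 := by
      haveI : IsIso (adj.counit.app (R.obj G)) := inferInstance
      rw [← cancel_mono (adj.counit.app (R.obj G)), zero_comp, Category.assoc]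
      simp only [σ, θ, Preadditive.add_comp, Category.assoc]
      rw [← R.map_comp_assoc, ← R.map_comp_assoc, biprod.inl_desc, biprod.inr_desc, Functor.map_neg,
        Preadditive.neg_comp, hη, hψ, Preadditive.comp_neg, Category.comp_id, add_neg_cancel]
    let e := PreservesKernel.iso R θ
    let σ' : R.obj F ⟶ R.obj (kernel θ) := kernel.lift _ σ hσθ ≫ e.inv
    have hσ' : σ' ≫ R.map (kernel.ι θ) = σ := by
      have he : e.inv ≫ R.map (kernel.ι θ) = kernel.ι (R.map θ) := by
        rw [Iso.inv_comp_eq, PreservesKernel.iso_hom, kernelComparison_comp_ι]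
      rw [Category.assoc, he, kernel.lift_ι]
    let e' := PreservesKernel.iso R h
    let σ'' : R.obj F ⟶ R.obj (kernel h) := kernel.lift _ σ' (hz.eq_of_tgt _ _) ≫ e'.inv
    have hσ'' : σ'' ≫ R.map m = σ' := by
      have he : e'.inv ≫ R.map m = kernel.ι (R.map h) := by
        rw [Iso.inv_comp_eq, PreservesKernel.iso_hom, kernelComparison_comp_ι]
      rw [Category.assoc, he, kernel.lift_ι]
    haveI : Epi (R.map (m ≫ p)) := by
      refine epi_of_epi_fac (f := σ'') (h := 𝟙 (R.obj F)) ?_
      rw [Functor.map_comp, ← Category.assoc, hσ'', Functor.map_comp, ← Category.assoc, hσ']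
      simp only [σ, Preadditive.add_comp, Category.assoc, ← Functor.map_comp, biprod.inl_fst, biprod.inr_fst,
        Functor.map_zero, comp_zero, add_zero, CategoryTheory.Functor.map_id]
    exact isIso_of_mono_of_epi _
  · show R.map (m ≫ q) = R.map (m ≫ p) ≫ φ
    rw [R.map_comp m q, R.map_comp m p, Category.assoc, hkey]

end Groth.Agent.ExtendHom
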